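import Mathlib

/-!
Diagonal alternants in two sets of variables.
-/

universe u

open MvPolynomial

namespace SymRep52

variable {k : Type u} [Field k] {n : ℕ}

noncomputable def expo (p : Fin n → ℕ × ℕ) : (Fin n × Fin 2) →₀ ℕ :=
  Finsupp.equivFunOnFinite.symm fun v => if v.2 = 0 then (p v.1).1 else (p v.1).2

noncomputable def mon (k : Type u) [Field k] (p : Fin n → ℕ × ℕ) : MvPolynomial (Fin n × Fin 2) k :=
  monomial (expo p) 1

noncomputable def alt (k : Type u) [Field k] (p : Fin n → ℕ × ℕ) : MvPolynomial (Fin n × Fin 2) k :=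
  (Matrix.of fun i j : Fin n =>
    (X (i, 0) : MvPolynomial (Fin n × Fin 2) k) ^ (p j).1 * X (i, 1) ^ (p j).2).det

noncomputable def act (σ : Equiv.Perm (Fin n)) :
    MvPolynomial (Fin n × Fin 2) k →ₐ[k] MvPolynomial (Fin n × Fin 2) k :=
  rename (fun v : Fin n × Fin 2 => (σ v.1, v.2))

theorem mon_eq_prod (p : Fin n → ℕ × ℕ) :
    mon k p = ∏ i, (X (i, 0) : MvPolynomial (Fin n × Fin 2) k) ^ (p i).1 * X (i, 1) ^ (p i).2 := by
  rw [mon, monomial_eq, C_1, one_mul, Finsupp.prod_fintype _ _ (fun i => pow_zero _),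
    Fintype.prod_prod_type]
  refine Finset.prod_congr rfl fun i _ => ?_
  simp [Fin.prod_univ_two, expo]

theorem alt_eq (p : Fin n → ℕ × ℕ) :
    alt k p = ∑ σ : Equiv.Perm (Fin n), ((Equiv.Perm.sign σ : ℤˣ) : ℤ) • act σ (mon k p) := by
  rw [alt, Matrix.det_apply]
  refine Finset.sum_congr rfl fun σ _ => ?_
  simp [mon_eq_prod, act, Units.smul_def]

theorem act_mon (σ : Equiv.Perm (Fin n)) (p : Fin n → ℕ × ℕ) :
    act σ (mon k p) = mon k (p ∘ σ.symm) := by
  rw [mon_eq_prod, mon_eq_prod, map_prod]
  refine Fintype.prod_equiv σ _ _ fun i => ?_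
  simp [act]

theorem act_mul (σ τ : Equiv.Perm (Fin n)) (f : MvPolynomial (Fin n × Fin 2) k) :
    act σ (act τ f) = act (σ * τ) f := by
  simp only [act, rename_rename]
  rfl

theorem act_alt (τ : Equiv.Perm (Fin n)) (p : Fin n → ℕ × ℕ) :
    act τ (alt k p) = ((Equiv.Perm.sign τ : ℤˣ) : ℤ) • alt k p := by
  rw [alt_eq, map_sum, Finset.smul_sum]
  refine Fintype.sum_equiv (Equiv.mulLeft τ) _ _ fun σ => ?_
  rw [map_zsmul, act_mul, Equiv.coe_mulLeft, smul_smul]
  congr 1
  rcases Int.units_eq_one_or (Equiv.Perm.sign τ) with h | h <;> simp [h]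

theorem expo_injective : Function.Injective (expo (n := n)) := by
  intro p q h
  funext i
  have h0 := DFunLike.congr_fun h (i, 0)
  have h1 := DFunLike.congr_fun h (i, 1)
  simp [expo] at h0 h1
  exact Prod.ext h0 h1

theorem exists_expo (d : (Fin n × Fin 2) →₀ ℕ) : ∃ p, expo p = d := by
  refine ⟨fun i => (d (i, 0), d (i, 1)), ?_⟩
  ext ⟨i, j⟩
  fin_cases j <;> simp [expo]

theorem mem_span_alt_iff [CharZero k] (f : MvPolynomial (Fin n × Fin 2) k) :
    (∀ σ : Equiv.Perm (Fin n), act σ f = ((Equiv.Perm.sign σ : ℤˣ) : ℤ) • f) ↔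
      f ∈ Submodule.span k (Set.range (alt k (n := n))) := by
  constructor
  · intro hf
    have key : ∀ g : MvPolynomial (Fin n × Fin 2) k,
        ∑ σ : Equiv.Perm (Fin n), ((Equiv.Perm.sign σ : ℤˣ) : ℤ) • act σ g ∈
          Submodule.span k (Set.range (alt k (n := n))) := by
      intro g
      induction g using MvPolynomial.induction_on' with
      | monomial d c =>
        obtain ⟨p, rfl⟩ := exists_expo d
        rw [show monomial (expo p) c = c • mon k p by simp [mon, smul_monomial]]
        simp only [map_smul, smul_comm _ c, ← Finset.smul_sum, ← alt_eq]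
        exact Submodule.smul_mem _ _ (Submodule.subset_span ⟨p, rfl⟩)
      | add a b ha hb =>
        simp only [map_add, smul_add, Finset.sum_add_distrib]
        exact add_mem ha hb
    have h := key f
    simp only [hf, smul_smul] at h
    have h2 : ∑ σ : Equiv.Perm (Fin n), f = (Fintype.card (Equiv.Perm (Fin n)) : k) • f := by
      rw [Finset.sum_const, Finset.card_univ, Nat.cast_smul_eq_nsmul]
    have h' : ∀ σ : Equiv.Perm (Fin n),
        (((Equiv.Perm.sign σ : ℤˣ) : ℤ) * ((Equiv.Perm.sign σ : ℤˣ) : ℤ)) • f = f := fun σ => by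
      rcases Int.units_eq_one_or (Equiv.Perm.sign σ) with h | h <;> simp [h]
    have h3 : (Fintype.card (Equiv.Perm (Fin n)) : k) • f ∈
        Submodule.span k (Set.range (alt k (n := n))) := by
      rw [← h2]
      simpa only [h'] using h
    exact (Submodule.smul_mem_iff _ (Nat.cast_ne_zero.2 Fintype.card_ne_zero)).1 h3
  · intro hf σ
    induction hf using Submodule.span_induction with
    | mem x hx =>
      obtain ⟨p, rfl⟩ := hx
      exact act_alt σ p
    | zero => simp
    | add a b _ _ ha hb => rw [map_add, ha, hb, smul_add]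
    | smul c a _ ha => rw [map_smul, ha, smul_comm]

theorem coeff_alt [DecidableEq (Fin n → ℕ × ℕ)] (p q : Fin n → ℕ × ℕ) (hp : Function.Injective p)
    (hpq : ∀ σ : Equiv.Perm (Fin n), p ∘ σ = q → p = q) :
    coeff (expo q) (alt k p) = if p = q then 1 else 0 := by
  classical
  rw [alt_eq, coeff_sum]
  simp only [act_mon]
  simp only [mon, coeff_smul, coeff_monomial]
  by_cases h : p = q
  · subst h
    rw [Finset.sum_eq_single (1 : Equiv.Perm (Fin n))]
    · simp [Equiv.Perm.one_def]
    · intro σ _ hσ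
      rw [if_neg, smul_zero]
      intro h
      apply hσ
      have hs : p ∘ σ.symm = p := expo_injective h
      have : σ.symm = 1 := Equiv.ext fun i => hp (congrFun hs i)
      exact Equiv.ext fun i => by
        have := congrArg (fun e : Equiv.Perm (Fin n) => e (σ i)) this
        simpa using this.symm
    · simp
  · rw [if_neg h]
    refine Finset.sum_eq_zero fun σ _ => ?_
    rw [if_neg, smul_zero]
    exact fun h' => h (hpq σ.symm (expo_injective h'))

theorem linearIndependent_alt :
    LinearIndependent k (fun p : {p : Fin n → ℕ ×ₗ ℕ // StrictMono p} =>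
      alt k (fun j => ofLex (p.1 j))) := by
  classical
  rw [linearIndependent_iff']
  intro s g hg q hq
  have h := congrArg (coeff (expo fun j => ofLex (q.1 j))) hg
  rw [coeff_sum, coeff_zero, Finset.sum_eq_single q] at h
  · rw [coeff_smul, coeff_alt _ _ (fun a b hab => q.2.injective (ofLex.injective hab))
      (fun _ _ => rfl), if_pos rfl, smul_eq_mul, mul_one] at h
    exact h
  · intro p _ hpq
    have hne : ∀ σ : Equiv.Perm (Fin n), (fun j => ofLex (p.1 j)) ∘ σ ≠ fun j => ofLex (q.1 j) := by
      intro σ hσ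
      apply hpq
      have h1 : (p.1 ∘ σ) = q.1 := funext fun j => ofLex.injective (congrFun hσ j)
      refine Subtype.ext ((StrictMono.range_inj p.2 q.2).1 ?_)
      rw [← h1, σ.surjective.range_comp]
    rw [coeff_smul, coeff_alt _ _ (fun a b hab => p.2.injective (ofLex.injective hab))
      (fun σ hσ => absurd hσ (hne σ)), if_neg, smul_zero]
    intro h'
    exact hne 1 (by simpa using h')
  · exact fun h => absurd hq h

end SymRep52
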